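import Mathlib.CategoryTheory.Functor.KanExtension.Adjunction
import Mathlib.CategoryTheory.Adjunction.FullyFaithful
import Mathlib.CategoryTheory.Comma.Over.Basic
import Mathlib.CategoryTheory.Limits.Types.Colimits
import Mathlib.CategoryTheory.Limits.Types.Pullbacks

/-!
# The left Kan extension along a functor fully faithful on slices
-/

open CategoryTheory Limits Opposite

universe u

namespace Groth.Agent.LanFaithful

variable {C : Type u} [SmallCategory C] {C' : Type u} [SmallCategory C'] (u : C ⥤ C')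

/-- The unit at `H`, evaluated. -/
noncomputable def η (H : Cᵒᵖ ⥤ Type u) (c : C) (x : H.obj (op c)) :
    (u.op.lan.obj H).obj (op (u.obj c)) :=
  ((u.op.lanUnit (H := Type u)).app H).app (op c) x

theorem η_map (H : Cᵒᵖ ⥤ Type u) {c d : C} (a : c ⟶ d) (y : H.obj (op d)) :
    η u H c (H.map a.op y) = (u.op.lan.obj H).map (u.map a).op (η u H d y) :=
  congr($(((u.op.lanUnit (H := Type u)).app H).naturality a.op) y)

theorem η_natural {H K : Cᵒᵖ ⥤ Type u} (α : H ⟶ K) (c : C) (x : H.obj (op c)) :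
    (u.op.lan.map α).app (op (u.obj c)) (η u H c x) = η u K c (α.app (op c) x) :=
  (congr(($((u.op.lanUnit (H := Type u)).naturality α)).app (op c) x)).symm

theorem exists_rep (H : Cᵒᵖ ⥤ Type u) (c' : C') (z : (u.op.lan.obj H).obj (op c')) :
    ∃ (c : C) (φ : c' ⟶ u.obj c) (x : H.obj (op c)),
      (u.op.lan.obj H).map φ.op (η u H c x) = z := by
  obtain ⟨g, x, hx⟩ := Types.jointly_surjective_of_isColimit
    (Functor.isPointwiseLeftKanExtensionLeftKanExtensionUnit u.op H (op c')) z
  exact ⟨g.left.unop, g.hom.unop, x, hx⟩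

variable [u.Faithful] (hu : ∀ X : C, (Over.post (X := X) u).Full ∧ (Over.post (X := X) u).Faithful)

include hu in
theorem exists_lift {X c d : C} (a : c ⟶ d) (φ : u.obj X ⟶ u.obj c) (χ : X ⟶ d)
    (e : φ ≫ u.map a = u.map χ) : ∃ ψ : X ⟶ c, u.map ψ = φ ∧ ψ ≫ a = χ := by
  haveI := (hu d).1
  obtain ⟨f, hf⟩ := (Over.post (X := d) u).map_surjective
    (Over.homMk φ e : (Over.post u).obj (Over.mk χ) ⟶ (Over.post u).obj (Over.mk a))
  exact ⟨f.left, congr(($hf).left), Over.w f⟩

variable (X : C) (H : Cᵒᵖ ⥤ Type u)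

open Classical in
/-- The value at `X` of a representative, if it lies over an arrow of `C`. -/
noncomputable def val (c : C) (x : H.obj (op c)) (φ : u.obj X ⟶ u.obj c) : Option (H.obj (op X)) :=
  if h : ∃ ψ : X ⟶ c, u.map ψ = φ then some (H.map h.choose.op x) else none

theorem val_map {c : C} (x : H.obj (op c)) (ψ : X ⟶ c) :
    val u X H c x (u.map ψ) = some (H.map ψ.op x) := by
  have h : ∃ ψ' : X ⟶ c, u.map ψ' = u.map ψ := ⟨ψ, rfl⟩
  rw [val, dif_pos h, u.map_injective h.choose_spec]

include hu in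
theorem val_inv {c d : C} (a : c ⟶ d) (y : H.obj (op d)) (φ : u.obj X ⟶ u.obj c) :
    val u X H c (H.map a.op y) φ = val u X H d y (φ ≫ u.map a) := by
  by_cases h : ∃ χ : X ⟶ d, u.map χ = φ ≫ u.map a
  · obtain ⟨χ, hχ⟩ := h
    obtain ⟨ψ, hψ, hψa⟩ := exists_lift u hu a φ χ hχ.symm
    rw [← hχ, ← hψ, val_map, val_map, ← hψa, op_comp, H.map_comp]
    rfl
  · have h' : ¬ ∃ ψ : X ⟶ c, u.map ψ = φ := fun ⟨ψ, hψ⟩ => h ⟨ψ ≫ a, by rw [u.map_comp, hψ]⟩
    rw [val, val, dif_neg h, dif_neg h']

/-- The presheaf receiving the values. -/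
def valPresheaf : C'ᵒᵖ ⥤ Type u where
  obj c' := (u.obj X ⟶ c'.unop) → Option (H.obj (op X))
  map e := TypeCat.ofHom fun g φ => g (φ ≫ e.unop)

/-- The natural transformation of values. -/
noncomputable def valHom : H ⟶ u.op ⋙ valPresheaf u X H where
  app c := TypeCat.ofHom fun x φ => val u X H c.unop x φ
  naturality c d a := by
    ext x
    funext φ
    exact val_inv u hu X H a.unop x φ

/-- The induced map out of the left Kan extension. -/
noncomputable def valDesc : u.op.lan.obj H ⟶ valPresheaf u X H :=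
  (u.op.lan.obj H).descOfIsLeftKanExtension ((u.op.lanUnit (H := Type u)).app H) _ (valHom u hu X H)

theorem valDesc_η (c : C) (x : H.obj (op c)) :
    (valDesc u hu X H).app (op (u.obj c)) (η u H c x) = fun φ => val u X H c x φ :=
  congr($((u.op.lan.obj H).descOfIsLeftKanExtension_fac_app ((u.op.lanUnit (H := Type u)).app H) _
    (valHom u hu X H) (op c)) x)

/-- The invariant of an element over `u X`. -/
noncomputable def inv' (z : (u.op.lan.obj H).obj (op (u.obj X))) : Option (H.obj (op X)) :=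
  (valDesc u hu X H).app (op (u.obj X)) z (𝟙 _)

theorem inv'_rep (c : C) (φ : u.obj X ⟶ u.obj c) (x : H.obj (op c)) :
    inv' u hu X H ((u.op.lan.obj H).map φ.op (η u H c x)) = val u X H c x φ := by
  have h := congr($((valDesc u hu X H).naturality φ.op) (η u H c x) (𝟙 _))
  refine h.trans ?_
  show (valDesc u hu X H).app (op (u.obj c)) (η u H c x) (𝟙 _ ≫ φ) = _
  rw [valDesc_η, Category.id_comp]

theorem inv'_η (x : H.obj (op X)) : inv' u hu X H (η u H X x) = some x := by
  have h := inv'_rep u hu X H X (u.map (𝟙 X)) x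
  rw [val_map] at h
  simpa using h

include hu in
theorem η_injective : Function.Injective (η u H X) := fun x y e =>
  Option.some_injective _ ((inv'_η u hu X H x).symm.trans ((congrArg _ e).trans (inv'_η u hu X H y)))

include hu in
theorem η_cartesian {K : Cᵒᵖ ⥤ Type u} (α : H ⟶ K) (z : (u.op.lan.obj H).obj (op (u.obj X)))
    (k : K.obj (op X)) (e : (u.op.lan.map α).app (op (u.obj X)) z = η u K X k) :
    ∃ x, η u H X x = z ∧ α.app (op X) x = k := by
  obtain ⟨c, φ, x, rfl⟩ := exists_rep u H (u.obj X) z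
  have e' : (u.op.lan.obj K).map φ.op (η u K c (α.app (op c) x)) = η u K X k := by
    rw [← η_natural, ← e]
    exact (congr($((u.op.lan.map α).naturality φ.op) (η u H c x))).symm
  have h := congrArg (inv' u hu X K) e'
  rw [inv'_rep, inv'_η] at h
  by_cases hψ : ∃ ψ : X ⟶ c, u.map ψ = φ
  · obtain ⟨ψ, rfl⟩ := hψ
    rw [val_map] at h
    refine ⟨H.map ψ.op x, η_map u H ψ x, ?_⟩
    exact (congr($(α.naturality ψ.op) x)).trans (Option.some_injective _ h)
  · rw [val, dif_neg hψ] at h
    simp at h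

end Groth.Agent.LanFaithful
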