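import Groth.Agent.Lib.LanFaithful.Basic
import Mathlib.CategoryTheory.Limits.Indization.IndObject

/-!
# Left Kan extension along fully faithful functors with retract-dense image
-/

open CategoryTheory Limits Opposite

universe u

namespace Groth.Agent.LanFaithful

variable {C : Type u} [SmallCategory C] {C' : Type u} [SmallCategory C'] (u : C ⥤ C')

/-- The generator of the left Kan extension of a representable. -/
noncomputable def gen (X : C) : (u.op.lan.obj (yoneda.obj X)).obj (op (u.obj X)) :=
  η u (yoneda.obj X) X (𝟙 X)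

theorem η_yoneda (X c : C) (x : c ⟶ X) :
    η u (yoneda.obj X) c x = (u.op.lan.obj (yoneda.obj X)).map (u.map x).op (gen u X) := by
  rw [gen, ← η_map]
  exact congrArg _ (Category.comp_id x).symm

theorem exists_map_gen (X : C) (c' : C') (z : (u.op.lan.obj (yoneda.obj X)).obj (op c')) :
    ∃ ψ : c' ⟶ u.obj X, (u.op.lan.obj (yoneda.obj X)).map ψ.op (gen u X) = z := by
  obtain ⟨c, φ, x, rfl⟩ := exists_rep u (yoneda.obj X) c' z
  refine ⟨φ ≫ u.map x, ?_⟩
  rw [η_yoneda, op_comp, Functor.map_comp]
  rfl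

/-- The natural map given by an element. -/
def elemHom (X : C) (G : C'ᵒᵖ ⥤ Type u) (g : G.obj (op (u.obj X))) : yoneda.obj X ⟶ u.op ⋙ G where
  app c := TypeCat.ofHom fun x => G.map (u.map x).op g
  naturality c d a := by
    ext x
    show G.map (u.map (a.unop ≫ x)).op g = G.map (u.map a.unop).op (G.map (u.map x).op g)
    rw [u.map_comp, op_comp, G.map_comp]
    rfl

/-- The map out of the extension of a representable given by an element. -/
noncomputable def elemDesc (X : C) (G : C'ᵒᵖ ⥤ Type u) (g : G.obj (op (u.obj X))) :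
    u.op.lan.obj (yoneda.obj X) ⟶ G :=
  (u.op.lan.obj (yoneda.obj X)).descOfIsLeftKanExtension
    ((u.op.lanUnit (H := Type u)).app (yoneda.obj X)) _ (elemHom u X G g)

theorem elemDesc_gen (X : C) (G : C'ᵒᵖ ⥤ Type u) (g : G.obj (op (u.obj X))) :
    (elemDesc u X G g).app (op (u.obj X)) (gen u X) = g := by
  refine (congr($((u.op.lan.obj (yoneda.obj X)).descOfIsLeftKanExtension_fac_app
    ((u.op.lanUnit (H := Type u)).app (yoneda.obj X)) _ (elemHom u X G g) (op X)) (𝟙 X))).trans ?_
  show G.map (u.map (𝟙 X)).op g = g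
  rw [u.map_id, op_id, G.map_id]
  rfl

theorem hom_ext_gen (X : C) {G : C'ᵒᵖ ⥤ Type u} (s t : u.op.lan.obj (yoneda.obj X) ⟶ G)
    (h : s.app (op (u.obj X)) (gen u X) = t.app (op (u.obj X)) (gen u X)) : s = t := by
  ext c' z
  obtain ⟨ψ, rfl⟩ := exists_map_gen u X c'.unop z
  exact (congr($(s.naturality ψ.op) (gen u X))).trans
    ((congrArg (G.map ψ.op) h).trans (congr($(t.naturality ψ.op) (gen u X))).symm)

/-- The component of the comparison with the representable. -/
theorem map_gen_injective (X : C) {c' : C'} (ψ ψ' : c' ⟶ u.obj X)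
    (h : (u.op.lan.obj (yoneda.obj X)).map ψ.op (gen u X) =
      (u.op.lan.obj (yoneda.obj X)).map ψ'.op (gen u X)) : ψ = ψ' := by
  have key : ∀ t : c' ⟶ u.obj X, (elemDesc u X (yoneda.obj (u.obj X)) (𝟙 _)).app (op c')
      ((u.op.lan.obj (yoneda.obj X)).map t.op (gen u X)) = t := fun t => by
    refine (congr($((elemDesc u X (yoneda.obj (u.obj X)) (𝟙 _)).naturality t.op) (gen u X))).trans ?_
    refine (congrArg ((yoneda.obj (u.obj X)).map t.op) (elemDesc_gen u X _ _)).trans ?_
    exact Category.comp_id t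
  rw [← key ψ, ← key ψ', h]

theorem lan_map_yoneda_gen {X Y : C} (a : X ⟶ Y) :
    (u.op.lan.map (yoneda.map a)).app (op (u.obj X)) (gen u X) =
      (u.op.lan.obj (yoneda.obj Y)).map (u.map a).op (gen u Y) := by
  rw [gen, η_natural, ← η_yoneda]
  exact congrArg _ (Category.id_comp a)

theorem full_faithful_of_bijective
    (h : ∀ (F G : Cᵒᵖ ⥤ Type u), IsIndObject F → IsIndObject G →
      Function.Bijective (fun φ : F ⟶ G => (u.op.lan : (Cᵒᵖ ⥤ Type u) ⥤ (C'ᵒᵖ ⥤ Type u)).map φ)) :
    u.Full ∧ u.Faithful := by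
  refine ⟨⟨fun {X Y} χ => ?_⟩, ⟨fun {X Y} a b e => ?_⟩⟩
  · obtain ⟨φ, hφ⟩ := (h _ _ (isIndObject_yoneda X) (isIndObject_yoneda Y)).2
      (elemDesc u X _ ((u.op.lan.obj (yoneda.obj Y)).map χ.op (gen u Y)))
    refine ⟨Yoneda.fullyFaithful.preimage φ, map_gen_injective u Y _ _ ?_⟩
    rw [← lan_map_yoneda_gen, Functor.FullyFaithful.map_preimage]
    exact (congr(($hφ).app (op (u.obj X)) (gen u X))).trans (elemDesc_gen u X _ _)
  · apply Yoneda.fullyFaithful.map_injective
    apply (h _ _ (isIndObject_yoneda X) (isIndObject_yoneda Y)).1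
    apply hom_ext_gen u X
    rw [lan_map_yoneda_gen, lan_map_yoneda_gen, e]

theorem exists_retract_of_iso {F : Cᵒᵖ ⥤ Type u} {X' : C'} (e : u.op.lan.obj F ≅ yoneda.obj X') :
    ∃ (X : C) (i : X' ⟶ u.obj X) (r : u.obj X ⟶ X'), i ≫ r = 𝟙 X' := by
  obtain ⟨c, φ, x, hx⟩ := exists_rep u F X' (e.inv.app (op X') (𝟙 X'))
  refine ⟨c, φ, e.hom.app (op (u.obj c)) (η u F c x), ?_⟩
  have h := congr($(e.hom.naturality φ.op) (η u F c x))
  refine (Eq.trans ?_ (h.symm.trans ((congrArg (e.hom.app (op X')) hx).trans ?_)))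
  · rfl
  · exact congr($(e.inv_hom_id_app (op X')) (𝟙 X'))

section Converse

variable [u.Full] [u.Faithful] (hr : ∀ X' : C', ∃ (X : C) (i : X' ⟶ u.obj X) (r : u.obj X ⟶ X'), i ≫ r = 𝟙 X')

include hr in
theorem isIso_counit (G : C'ᵒᵖ ⥤ Type u) : IsIso ((u.op.lanAdjunction (Type u)).counit.app G) := by
  let L := u.op.lanAdjunction (Type u)
  let ε := L.counit.app G
  have hu' : ∀ X : C, IsIso (ε.app (op (u.obj X))) := fun X => by
    have t : (L.unit.app (u.op ⋙ G)).app (op X) ≫ ε.app (op (u.obj X)) = 𝟙 _ :=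
      congr($(L.right_triangle_components G).app (op X))
    haveI : IsIso ((L.unit.app (u.op ⋙ G)).app (op X)) := inferInstance
    haveI : IsIso ((L.unit.app (u.op ⋙ G)).app (op X) ≫ ε.app (op (u.obj X))) := by
      rw [t]; infer_instance
    exact IsIso.of_isIso_comp_left ((L.unit.app (u.op ⋙ G)).app (op X)) _
  haveI : ∀ c', IsIso (ε.app c') := by
    intro c'
    obtain ⟨X, i, r, hir⟩ := hr c'.unop
    have hbij := (isIso_iff_bijective _).mp (hu' X)
    have hnat : ∀ {a b : C'} (f : a ⟶ b) z, ε.app (op a) (((u.op.lan.obj (u.op ⋙ G))).map f.op z) =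
        G.map f.op (ε.app (op b) z) := fun f z => congr($(ε.naturality f.op) z)
    have hret : ∀ (T : C'ᵒᵖ ⥤ Type u) (z : T.obj (op c'.unop)), T.map i.op (T.map r.op z) = z :=
      fun T z => by
        have : T.map r.op ≫ T.map i.op = 𝟙 _ := by
          rw [← T.map_comp, ← op_comp, hir, op_id, T.map_id]
        exact congr($this z)
    refine (isIso_iff_bijective _).mpr ⟨fun z₁ z₂ hz => ?_, fun g => ?_⟩
    · rw [← hret _ z₁, ← hret _ z₂]
      congr 1
      apply hbij.1
      exact (hnat r z₁).trans ((congrArg (G.map r.op) hz).trans (hnat r z₂).symm)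
    · obtain ⟨w, hw⟩ := hbij.2 (G.map r.op g)
      exact ⟨_, (hnat i w).trans ((congrArg (G.map i.op) hw).trans (hret G g))⟩
  exact NatIso.isIso_of_isIso_app ε

include hr in
theorem isIndObject_comp {G : C'ᵒᵖ ⥤ Type u} (hG : IsIndObject G) : IsIndObject (u.op ⋙ G) := by
  haveI := hG.isFiltered
  suffices IsFiltered (CostructuredArrow yoneda (u.op ⋙ G)) from
    haveI : FinallySmall.{u} (CostructuredArrow yoneda (u.op ⋙ G)) :=
      finallySmall_of_essentiallySmall _
    isIndObject_of_isFiltered_of_finallySmall _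
  let el : ∀ {c : C'} (x : G.obj (op c)), CostructuredArrow yoneda G := fun {c} x =>
    CostructuredArrow.mk (yonedaEquiv.symm x)
  have hG' : ∀ {a b : CostructuredArrow yoneda G} (f : a ⟶ b),
      G.map f.left.op (yonedaEquiv b.hom) = yonedaEquiv a.hom := fun {a b} f => by
    conv_rhs => rw [← CostructuredArrow.w f]
    exact yonedaEquiv_naturality' b.hom f.left.op
  have mkHom : ∀ {a b : CostructuredArrow yoneda (u.op ⋙ G)} (f : a.left ⟶ b.left),
      G.map (u.map f).op (yonedaEquiv (F := u.op ⋙ G) b.hom) = yonedaEquiv (F := u.op ⋙ G) a.hom → Nonempty (a ⟶ b) :=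
    fun {a b} f hf => ⟨CostructuredArrow.homMk f (yonedaEquiv.injective
      ((yonedaEquiv_naturality' b.hom f.op).symm.trans hf))⟩
  let ev : ∀ a : CostructuredArrow yoneda (u.op ⋙ G), G.obj (op (u.obj a.left)) := fun a =>
    yonedaEquiv (F := u.op ⋙ G) a.hom
  haveI : Nonempty (CostructuredArrow yoneda (u.op ⋙ G)) := by
    obtain ⟨o⟩ := IsFiltered.nonempty (C := CostructuredArrow yoneda G)
    obtain ⟨X, i, r, hir⟩ := hr o.left
    exact ⟨CostructuredArrow.mk (yonedaEquiv.symm (G.map r.op (yonedaEquiv o.hom) : (u.op ⋙ G).obj (op X)))⟩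
  haveI : IsFilteredOrEmpty (CostructuredArrow yoneda (u.op ⋙ G)) := by
    constructor
    · intro a b
      let a' := el (c := u.obj a.left) (ev a)
      let b' := el (c := u.obj b.left) (ev b)
      let m := IsFiltered.max a' b'
      obtain ⟨X, i, r, hir⟩ := hr m.left
      let t : CostructuredArrow yoneda (u.op ⋙ G) := CostructuredArrow.mk
        (yonedaEquiv.symm (G.map r.op (yonedaEquiv m.hom) : (u.op ⋙ G).obj (op X)))
      have key : ∀ (c : CostructuredArrow yoneda (u.op ⋙ G))
          (f : el (c := u.obj c.left) (ev c) ⟶ m), Nonempty (c ⟶ t) := fun c f => by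
        refine mkHom (b := t) (u.preimage (f.left ≫ i)) ?_
        rw [u.map_preimage]
        show G.map (f.left ≫ i).op (yonedaEquiv (F := u.op ⋙ G) (yonedaEquiv.symm (G.map r.op (yonedaEquiv m.hom) : (u.op ⋙ G).obj (op X)))) = _
        rw [Equiv.apply_symm_apply]
        have : G.map r.op ≫ G.map (f.left ≫ i).op = G.map f.left.op := by
          rw [← G.map_comp, ← op_comp, Category.assoc, hir, Category.comp_id]
        refine (congr($this (yonedaEquiv m.hom))).trans ((hG' f).trans ?_)
        exact Equiv.apply_symm_apply _ _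
      obtain ⟨fa⟩ := key a (IsFiltered.leftToMax a' b')
      obtain ⟨fb⟩ := key b (IsFiltered.rightToMax a' b')
      exact ⟨t, fa, fb, trivial⟩
    · intro a b f g
      let a' := el (c := u.obj a.left) (ev a)
      let b' := el (c := u.obj b.left) (ev b)
      have hw : ∀ f : a ⟶ b, G.map (u.map f.left).op (ev b) = ev a := fun f => by
        show _ = yonedaEquiv (F := u.op ⋙ G) a.hom
        conv_rhs => rw [← CostructuredArrow.w f]
        exact yonedaEquiv_naturality' b.hom f.left.op
      have lift : ∀ f : a ⟶ b, ∃ f' : a' ⟶ b', f'.left = u.map f.left := fun f =>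
        ⟨CostructuredArrow.homMk (u.map f.left) (yonedaEquiv.injective (by
          refine (yonedaEquiv_naturality' b'.hom (u.map f.left).op).symm.trans ?_
          simp only [a', b', el, CostructuredArrow.mk_hom_eq_self, Equiv.apply_symm_apply]
          exact hw f)), rfl⟩
      obtain ⟨f', hf⟩ := lift f
      obtain ⟨g', hg⟩ := lift g
      let m := IsFiltered.coeq f' g'
      let h := IsFiltered.coeqHom f' g'
      obtain ⟨X, i, r, hir⟩ := hr m.left
      let t : CostructuredArrow yoneda (u.op ⋙ G) := CostructuredArrow.mk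
        (yonedaEquiv.symm (G.map r.op (yonedaEquiv m.hom) : (u.op ⋙ G).obj (op X)))
      let hl : b.left ⟶ X := u.preimage (h.left ≫ i)
      refine ⟨t, CostructuredArrow.homMk hl (yonedaEquiv.injective ?_), ?_⟩
      · refine (yonedaEquiv_naturality' t.hom hl.op).symm.trans ?_
        show G.map (u.map hl).op (yonedaEquiv (F := u.op ⋙ G) (yonedaEquiv.symm (G.map r.op (yonedaEquiv m.hom) : (u.op ⋙ G).obj (op X)))) = _
        rw [Equiv.apply_symm_apply, u.map_preimage]
        have : G.map r.op ≫ G.map (h.left ≫ i).op = G.map h.left.op := by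
          rw [← G.map_comp, ← op_comp, Category.assoc, hir, Category.comp_id]
        refine (congr($this (yonedaEquiv m.hom))).trans ((hG' h).trans ?_)
        exact Equiv.apply_symm_apply _ _
      · ext
        apply u.map_injective
        have hc := congrArg CommaMorphism.left (IsFiltered.coeq_condition f' g')
        simp only [CostructuredArrow.comp_left, CostructuredArrow.homMk_left, Functor.map_comp, hl,
          u.map_preimage] at hc ⊢
        rw [← hf, ← hg]
        exact (Category.assoc _ _ _).symm.trans ((congrArg (· ≫ i) hc).trans (Category.assoc _ _ _))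
  exact ⟨⟩

end Converse

end Groth.Agent.LanFaithful
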